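import Cfsg.Agent.H975.Cov.Main
import Cfsg.Agent.H424.Spr.Two
import Cfsg.Agent.H159.PF.FieldUniq
import Cfsg.Agent.AutOrth.Main
import Cfsg.Agent.S0297
import Cfsg.Agent.H688.Sp4.Odd
import Cfsg.Agent.H833.Spr4.Two_m3
import Cfsg.Agent.S0822
import Cfsg.Agent.S5785
import Cfsg.Agent.H680.Cov.SU6.Res_m3
import Cfsg.Agent.S0283
import Cfsg.Agent.H834.Cov.Su7
import Cfsg.Agent.H212.CovSp.Row_mg_m3
import Cfsg.Agent.H375.O8.TypeA_m3
import Cfsg.Agent.H437.SporNum
import Cfsg.Agent.H876.Stab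
import Mathlib
import Cfsg.Agent.H884.ElO8
import Cfsg.Agent.H957.Bridge
import Cfsg.Agent.S0295
import Cfsg.Agent.S5835
import Cfsg.Agent.S5836
import Cfsg.Agent.FastGrp
import Cfsg.Agent.Prune
set_option linter.all false

section
prune_inst 0x7f00000000000000000000000000000000000000000000000000000000000000000000000000000000000000000000000000000000000000000000000000000000000000000000000000000000000000003fffffffffffffffffffffffffffbeffbdffffffff

-- part: H497/Spr/OM
section
set_option linter.all false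
open scoped Cfsg.Agent.FastGrp

/-!
# 3/2-generation of `PΩ⁻₈(q)` (helper497, task 4841, for helper862's S3938)

Every proper overgroup of an element of order `r₈` (a primitive prime divisor of `q⁸ - 1`) lies in the normaliser of the unique
field of degree two commuting with it (`H975.Cov.a_case`); `spr_ominus_four`.
-/

set_option autoImplicit false
set_option linter.unusedSectionVars false

namespace Cfsg.Agent.H497.Spr

open Module QuadraticMap Cfsg Cfsg.Geo Cfsg.Agent.LieClassical.OrthCore Cfsg.Agent.H955 Cfsg.Agent.H954.TSing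
open Cfsg.Agent.H884.El
open Cfsg.Agent.H951 (fx cm Inv)
open Cfsg.Agent.LieClassical.OmegaReindex
open Cfsg.Agent.H975.Cov
open Cfsg.Agent.H424.Spr (Spr spr_of_one_up)
open scoped MatrixGroups Matrix

section Up

variable {F : Type} [Field F] [Fintype F] {Q : QuadraticForm F (Fin 8 → F)}

/-- one proper subgroup contains all coatoms over `s` -/
theorem exists_one (hQ : Nondeg Q) (hP : ¬ IsPlus Q) (hD : H390.Lift.Data Q) :
    ∃ (s : omegaGL (⇑Q)) (M : Subgroup (omegaGL (⇑Q))), M ≠ ⊤ ∧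
      ∀ K : Subgroup (omegaGL (⇑Q)), IsCoatom K → s ∈ K → K = M := by
  obtain ⟨p, f, r8, N, r3, n⟩ := exists_num F
  have hmem : ∀ {g : GL (Fin 8) F}, g ∈ Cfsg.isometryGroup F (⇑Q) → Odd (orderOf g) → g ∈ omegaGL (⇑Q) := by
    intro g hg hodd
    obtain ⟨x, hx⟩ := exists_omega hD hg hodd (pow_orderOf_eq_one g)
    exact ⟨x, x.2, hx⟩
  obtain ⟨a, ha, hao⟩ := exists_even hQ n.h8q (by decide) (by norm_num) (Or.inr ⟨rfl, hP⟩)
  obtain ⟨c, hc, hco⟩ := exists_odd hQ n.h3
  have haΩ := hmem ha (by rw [hao]; exact n.h8q.odd (by norm_num))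
  have hcΩ := hmem hc (by rw [hco]; exact n.h3.odd (by norm_num))
  have hirr := a_irr hQ n.h8q ha hao
  have hcop : Nat.Coprime r8 2 := Nat.coprime_two_right.2 (n.h8q.odd (by norm_num))
  have key : ∀ K : Subgroup (omegaGL (⇑Q)), IsCoatom K → (⟨a, haΩ⟩ : omegaGL (⇑Q)) ∈ K →
      ∃ L : Subalgebra F (Matrix (Fin 8) (Fin 8) F), IsFieldSubalgebra 2 L ∧ im K ≤ subalgebraNormalizer L :=
    fun K hK haK => a_case n hQ hP (isMaximalIn_im hK) (mem_im haK) hao
  by_cases hex : ∃ K : Subgroup (omegaGL (⇑Q)), IsCoatom K ∧ (⟨a, haΩ⟩ : omegaGL (⇑Q)) ∈ K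
  · obtain ⟨K₀, hK₀, haK₀⟩ := hex
    refine ⟨⟨a, haΩ⟩, K₀, hK₀.1, fun K hK haK => ?_⟩
    obtain ⟨L₀, hL₀, h₀⟩ := key K₀ hK₀ haK₀
    obtain ⟨L, hL, h⟩ := key K hK haK
    have hcomm : ∀ {L : Subalgebra F (Matrix (Fin 8) (Fin 8) F)}, IsFieldSubalgebra 2 L → a ∈ subalgebraNormalizer L →
        ∀ x ∈ L, (a : Matrix (Fin 8) (Fin 8) F) * x = x * (a : Matrix (Fin 8) (Fin 8) F) := fun hL haL =>
      comm_field' hL haL hcop (by rw [← hao]; exact pow_orderOf_eq_one a)
    have hLL : L = L₀ := H159.PF.fieldSub_unique (y := (a : Matrix (Fin 8) (Fin 8) F))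
      (fun W hW => hirr W hW) (by norm_num) hL hL₀ (hcomm hL (h (mem_im haK))) (hcomm hL₀ (h₀ (mem_im haK₀)))
    subst hLL
    -- the normaliser of the field is proper
    set N : Subgroup (omegaGL (⇑Q)) := (subalgebraNormalizer L).subgroupOf (omegaGL (⇑Q)) with hN
    have hNt : N ≠ ⊤ := by
      intro htop
      have h5 : omegaGL (⇑Q) ≤ subalgebraNormalizer L := by
        intro x hx
        have h6 : (⟨x, hx⟩ : omegaGL (⇑Q)) ∈ N := by rw [htop]; trivial
        exact h6
      exact c_kill (H := omegaGL (⇑Q)) n hQ hP omegaGL_le' hcΩ hco (Or.inr (Or.inr (Or.inl ⟨L, hL, h5⟩)))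
    have hle : ∀ K : Subgroup (omegaGL (⇑Q)), im K ≤ subalgebraNormalizer L → K ≤ N := fun K hK x hx => hK (mem_im hx)
    have e1 : N = K := (hK.le_iff.1 (hle K h)).resolve_left hNt
    have e2 : N = K₀ := (hK₀.le_iff.1 (hle K₀ h₀)).resolve_left hNt
    rw [← e1, e2]
  · push Not at hex
    refine ⟨⟨a, haΩ⟩, ⊥, ?_, fun K hK haK => absurd haK (hex K hK)⟩
    intro hbt
    have h1 : (⟨a, haΩ⟩ : omegaGL (⇑Q)) ∈ (⊥ : Subgroup (omegaGL (⇑Q))) := by rw [hbt]; trivial
    rw [Subgroup.mem_bot] at h1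
    have h2 : a = 1 := congrArg Subtype.val h1
    rw [h2, orderOf_one] at hao
    have h3 := n.h8q.odd (by norm_num)
    have h4 := n.h8.1
    rw [← hao] at h4
    exact absurd h4 (by norm_num)

theorem spr_up {L : Type*} [Group L] [IsSimpleGroup L] [Finite L] (hna : ∃ x y : L, x * y ≠ y * x)
    (hQ : Nondeg Q) (hP : ¬ IsPlus Q) (hD : H390.Lift.Data Q) (f : omegaGL (⇑Q) →* L) (hf : Function.Surjective f) :
    Spr L := by
  obtain ⟨s, M, hM, h⟩ := exists_one hQ hP hD
  have hfin : Finite (omegaGL (⇑Q)) := inferInstance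
  have hall : ∀ K : Subgroup (omegaGL (⇑Q)), s ∈ K → K ≠ ⊤ → K ≤ M := by
    intro K hs hK
    obtain ⟨K', hK', hle⟩ := (eq_top_or_exists_le_coatom K).resolve_left hK
    rw [← h K' hK' (hle hs)]
    exact hle
  by_cases hex : ∃ K : Subgroup (omegaGL (⇑Q)), f.ker ≤ K ∧ s ∈ K ∧ K ≠ ⊤
  · obtain ⟨K, hK1, hK2, hK3⟩ := hex
    exact spr_of_one_up hna f hf (s := s) (M := M) (hK1.trans (hall K hK2 hK3)) hM fun K _ hs hK => hall K hs hK
  · push Not at hex
    refine spr_of_one_up hna f hf (s := s) (M := f.ker) le_rfl ?_ fun K hk hs hK => absurd (hex K hk hs) hK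
    intro htop
    obtain ⟨x, y, hxy⟩ := hna
    apply hxy
    have h1 : ∀ z : L, z = 1 := by
      intro z
      obtain ⟨g, rfl⟩ := hf z
      have : g ∈ f.ker := by rw [htop]; trivial
      exact this
    rw [h1 x, h1 y]

end Up

section Comm

open Cfsg.Agent.LieClassical.OrthTrans Cfsg.Agent.LieClassical.OrthSimple
open Cfsg.Agent.ClassicalGeometry.OrthAut1 (P)

theorem not_comm_P {F V : Type*} [Field F] [AddCommGroup V] [Module F V] {Q : QuadraticForm F V} (hG : Good Q) :
    ∃ x y : P Q, x * y ≠ y * x := by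
  by_contra hc
  push Not at hc
  have h1 : commutator ↥(E Q) = ⊤ := (Subgroup.isPerfect_iff.mpr hG.E_perfect).commutator_eq_top
  have h2 : commutator ↥(E Q) ≤ (QuotientGroup.mk' (Subgroup.center ↥(E Q))).ker := by
    rw [commutator_def, Subgroup.commutator_le]
    intro a _ b _
    rw [MonoidHom.mem_ker, map_commutatorElement, commutatorElement_eq_one_iff_mul_comm]
    exact hc _ _
  have h4 := good_isSimpleGroup hG
  have h5 := h4.toNontrivial
  rw [h1, top_le_iff] at h2
  obtain ⟨x, y, hne⟩ := h5.exists_pair_ne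
  obtain ⟨a, rfl⟩ := QuotientGroup.mk_surjective x
  obtain ⟨b, rfl⟩ := QuotientGroup.mk_surjective y
  apply hne
  have ha : a ∈ (QuotientGroup.mk' (Subgroup.center ↥(E Q))).ker := by rw [h2]; trivial
  have hb : b ∈ (QuotientGroup.mk' (Subgroup.center ↥(E Q))).ker := by rw [h2]; trivial
  exact (MonoidHom.mem_ker.1 ha).trans (MonoidHom.mem_ker.1 hb).symm

theorem not_comm_minus {F : Type} [Field F] [Fintype F] {m : ℕ} (hm : 2 ≤ m) {a b : F}
    (hab : ∀ z₁ z₂ : F, z₁ ^ 2 + a * z₁ * z₂ + b * z₂ ^ 2 = 0 → z₁ = 0 ∧ z₂ = 0) :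
    ∃ x y : POmega F (quadFormMinus m F a b), x * y ≠ y * x := by
  have hG : Good (LieClassical.QuadForms.minusForm m F a b) := AutOrth.Main.good_minus hm hab
  have e : POmega F (quadFormMinus m F a b) ≃* P (LieClassical.QuadForms.minusForm m F a b) := by
    rw [← LieClassical.QuadForms.coe_minusForm]
    exact AutOrth.Main.pe hG
  obtain ⟨x, y, hxy⟩ := not_comm_P hG
  refine ⟨e.symm x, e.symm y, fun h => hxy ?_⟩
  rw [← map_mul, ← map_mul] at h
  exact e.symm.injective h

end Comm

section Final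

variable {F : Type} [Field F] [Fintype F]

/-- **`PΩ⁻₈(q)`** -/
theorem spr_ominus_four {a b : F}
    (hab : ∀ z₁ z₂ : F, z₁ ^ 2 + a * z₁ * z₂ + b * z₂ ^ 2 = 0 → z₁ = 0 ∧ z₂ = 0) :
    Spr (POmega F (quadFormMinus (4 - 1) F a b)) := by
  have hs : IsSimpleGroup (POmega F (quadFormMinus 3 F a b)) := S0297.result (F := F) 4 le_rfl a b hab
  have hna : ∃ x y : POmega F (quadFormMinus 3 F a b), x * y ≠ y * x := not_comm_minus (by norm_num) hab
  change Spr (POmega F (quadFormMinus 3 F a b))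
  set Q0 := quadMinus 3 F a b with hQ0
  let e : (Fin 3 ⊕ Fin 3) ⊕ Fin 2 ≃ Fin 8 := Fintype.equivFinOfCardEq (by simp)
  let Q := reindexForm e Q0
  have hnd : (polarBilin Q).Nondegenerate := reindexForm_nondegenerate e Q0 (quadMinus_nondegenerate hab)
  have hQ : Nondeg Q := nondeg_iff.2 hnd
  have hP : ¬ IsPlus Q := by
    rw [isPlus_iff_of_equiv (Q := Q) (Q' := Q0) (LinearEquiv.funCongrLeft F F e) (fun v => rfl)]
    exact not_isPlus_quadMinus hab
  have hD : H390.Lift.Data Q := by
    refine H390.data_of Q hnd (by rw [Fintype.card_fin]; norm_num) ?_ (Or.inr (by rw [Fintype.card_fin]; norm_num))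
    obtain ⟨u, hu0, hu⟩ := quadMinus_isotropic (F := F) (m := 3) (by norm_num) a b
    refine ⟨u ∘ e.symm, fun h => hu0 ?_, ?_⟩
    · funext i
      have := congrFun h (e i)
      simpa using this
    · change Q0 ((u ∘ e.symm) ∘ e) = 0
      rw [Function.comp_assoc, Equiv.symm_comp_self, Function.comp_id]
      exact hu
  let ε : Cfsg.isometryGroup F (⇑Q) ≃* Cfsg.isometryGroup F (⇑Q0) :=
    isometryGroupReindex e.symm (⇑Q) (⇑Q0) (fun v => by
      change Q0 v = Q0 ((v ∘ e.symm) ∘ e)
      rw [Function.comp_assoc, Equiv.symm_comp_self, Function.comp_id])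
  have hΩ : (Omega F (⇑Q)).map ε.toMonoidHom = Omega F (⇑Q0) := by
    unfold Omega
    rw [commutator_def, commutator_def, Subgroup.map_commutator, Subgroup.map_top_of_surjective _ ε.surjective]
  let ψ : omegaGL (⇑Q) ≃* Omega F (⇑Q0) :=
    ((Omega F (⇑Q)).equivMapOfInjective (Cfsg.isometryGroup F (⇑Q)).subtype
      (Cfsg.isometryGroup F (⇑Q)).subtype_injective).symm.trans
      ((ε.subgroupMap (Omega F (⇑Q))).trans (MulEquiv.subgroupCongr hΩ))
  rw [← coe_quadMinus, ← hQ0] at hs hna ⊢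
  have hfin : Finite (POmega F (⇑Q0)) := inferInstance
  exact spr_up hna hQ hP hD ((QuotientGroup.mk' (Subgroup.center (Omega F (⇑Q0)))).comp ψ.toMonoidHom)
      ((QuotientGroup.mk'_surjective _).comp ψ.surjective)

end Final

end Cfsg.Agent.H497.Spr
end

-- part: H688/Sp4/OddAll_mg
section
set_option linter.all false
open scoped Cfsg.Agent.FastGrp

-- part: H688/Sp4/OddAll
section
/-!
# S3938: `PSp_4(q)`, `q` odd (helper688)
-/

set_option autoImplicit false

namespace Cfsg.Agent.H688.Sp4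

open Cfsg Cfsg.Geo
open Cfsg.Agent.H424.Spr (Spr)

/-- the content of S5785 -/
theorem resList {F : Type} [Field F] [Fintype F] {q : ℕ} (hF : Fintype.card F = q ^ 2) :
    Cfsg.Agent.H833.Spr4.ResList F q := fun H hH hS => Cfsg.Agent.S5785.result q hF H hH hS

/-- **`Spr (PSp_4(3))`** -/
theorem spr_psp4_three {F : Type} [Field F] [Fintype F] (h3 : Fintype.card F = 3) : Spr (PSp 2 F) := by
  have h4 : Fintype.card Cfsg.Agent.SporRec.GF4.F4 = 4 := by
    have := Cfsg.Agent.H833.Spr4.Two.hF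
    rw [this]; norm_num
  obtain ⟨e⟩ := Cfsg.Agent.S0822.result (F := Cfsg.Agent.SporRec.GF4.F4) (K := F) h4 h3
  have h := Cfsg.Agent.H833.Spr4.Two.spr_two (F := Cfsg.Agent.SporRec.GF4.F4) (by rw [h4]; norm_num) (resList (by rw [h4]; norm_num))
  exact h.congr e

/-- **`Spr (PSp_4(q))`, `q` odd.** -/
theorem spr_psp4_odd {F : Type} [Field F] [Fintype F] (hodd : Odd (Fintype.card F)) : Spr (PSp 2 F) := by
  rcases Nat.lt_or_ge (Fintype.card F) 5 with h | h
  · have h1 : 1 < Fintype.card F := Fintype.one_lt_card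
    have h3 : Fintype.card F = 3 := by
      obtain ⟨k, hk⟩ := hodd
      omega
    exact spr_psp4_three h3
  · exact spr_psp4_ge_five hodd h

end Cfsg.Agent.H688.Sp4
end

-- part: H242/Spr/Crit
section
/-!
# S3938 (3/2-generation): the criterion for `PSU_n(q)` in `GL_n(q²)` (helper242, task 4835)

* `spr_psu_of` : one overgroup;
* `eq_adjoin` : the field of prime degree `n` normalised by an element of prime order `s ∤ n (q² - 1)`.
-/

set_option autoImplicit false
set_option linter.unusedSectionVars false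

namespace Cfsg.Agent.H242.Spr

open Cfsg Cfsg.Geo Module Cfsg.Agent.H918 Cfsg.Agent.H251 Cfsg.Agent.H251.GeoCard Cfsg.Agent.H951
open Cfsg.Agent.H834.Cov
open Cfsg.Agent.H424.Spr (Spr spr_of_one_up)
open Cfsg.Agent.LieClassical
open scoped Matrix MatrixGroups

theorem not_comm_psu {n q : ℕ} {F : Type} [Field F] [Fintype F] (hF : Fintype.card F = q ^ 2) (hn : 3 ≤ n)
    (h32 : ¬ (n = 3 ∧ q = 2)) : ∃ x y : PSU n F q, x * y ≠ y * x := by
  have hsim : IsSimpleGroup (PSU n F q) := Cfsg.Agent.S0283.result hF n hn h32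
  by_contra hcon
  push Not at hcon
  have h1 : commutator (Cfsg.SU n F q) = ⊤ := HermPerfect.commutator_SU_eq_top hF hn h32
  have h2 : commutator (Cfsg.SU n F q) ≤ Subgroup.center (Cfsg.SU n F q) := by
    rw [commutator_def, Subgroup.commutator_le]
    intro x _ y _
    rw [← QuotientGroup.eq_one_iff, commutatorElement_def]
    have h3 := hcon (x : PSU n F q) (y : PSU n F q)
    change ((x : PSU n F q) * y * (x : PSU n F q)⁻¹ * (y : PSU n F q)⁻¹) = 1
    rw [h3]
    group
  rw [h1, top_le_iff] at h2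
  obtain ⟨x, hx⟩ := exists_ne (1 : PSU n F q)
  apply hx
  obtain ⟨y, rfl⟩ := QuotientGroup.mk_surjective x
  rw [QuotientGroup.eq_one_iff, h2]
  trivial

/-- **one overgroup** -/
theorem spr_psu_of {n q : ℕ} {F : Type} [Field F] [Fintype F] (hF : Fintype.card F = q ^ 2) (hn : 3 ≤ n)
    (h32 : ¬ (n = 3 ∧ q = 2)) {a : GL (Fin n) F} (ha : a ∈ SUg n F q) {N : Subgroup (GL (Fin n) F)}
    (hcomm : ∀ z ∈ SUg n F q, z * a = a * z → z ∈ N)
    (hA : ∀ H, IsMaximalIn (SUg n F q) H → a ∈ H → H ≤ N ∧ ¬ SUg n F q ≤ N) : Spr (PSU n F q) := by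
  have hsim : IsSimpleGroup (PSU n F q) := Cfsg.Agent.S0283.result hF n hn h32
  have hfin : Finite (Cfsg.SU n F q) := inferInstance
  obtain ⟨a', ha'⟩ := exists_suHom ha
  have hco : ∀ M : Subgroup (Cfsg.SU n F q), IsCoatom M → a' ∈ M →
      M ≤ N.comap (suHom n F q) ∧ ¬ SUg n F q ≤ N := by
    intro M hM haM
    have h1 := hA (M.map (suHom n F q)) (isMaximalIn_map suHom_injective range_suHom hM) ⟨a', haM, ha'⟩
    exact ⟨fun g hg => h1.1 ⟨g, hg, rfl⟩, h1.2⟩
  by_cases hex : ∃ M : Subgroup (Cfsg.SU n F q), IsCoatom M ∧ a' ∈ M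
  · obtain ⟨M₀, hM₀, haM₀⟩ := hex
    refine spr_of_one_up (not_comm_psu hF hn h32) (QuotientGroup.mk' (Subgroup.center (Cfsg.SU n F q)))
      (QuotientGroup.mk'_surjective _) (s := a') (M := N.comap (suHom n F q)) ?_ ?_ ?_
    · intro z hz
      rw [QuotientGroup.ker_mk', Subgroup.mem_center_iff] at hz
      refine hcomm _ (suHom_mem z) ?_
      rw [← ha', ← map_mul, ← map_mul, hz a']
    · intro htop
      apply (hco M₀ hM₀ haM₀).2
      intro g hg
      obtain ⟨g', rfl⟩ := exists_suHom hg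
      have h1 : g' ∈ N.comap (suHom n F q) := by rw [htop]; trivial
      exact h1
    · intro K _ haK hK
      obtain ⟨M, hM, hKM⟩ := (eq_top_or_exists_le_coatom K).resolve_left hK
      exact hKM.trans (hco M hM (hKM haK)).1
  · refine spr_of_one_up (not_comm_psu hF hn h32) (QuotientGroup.mk' (Subgroup.center (Cfsg.SU n F q)))
      (QuotientGroup.mk'_surjective _) (s := a')
      (M := (QuotientGroup.mk' (Subgroup.center (Cfsg.SU n F q))).ker) le_rfl ?_ ?_
    · intro htop
      rw [QuotientGroup.ker_mk'] at htop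
      obtain ⟨x, hx⟩ := exists_ne (1 : PSU n F q)
      apply hx
      obtain ⟨y, rfl⟩ := QuotientGroup.mk_surjective x
      rw [QuotientGroup.eq_one_iff, htop]
      trivial
    · intro K _ haK hK
      obtain ⟨M, hM, hKM⟩ := (eq_top_or_exists_le_coatom K).resolve_left hK
      exact absurd ⟨M, hM, hKM haK⟩ hex

section Adjoin

variable {F : Type*} [Field F] [Fintype F] {n : ℕ}

/-- an element of prime order `s` normalising a field of prime degree `n ≠ s` in dimension `n` lies in it -/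
theorem mem_of_norm (hn : n.Prime) {K : Subalgebra F (Matrix (Fin n) (Fin n) F)} (hK : IsFieldSubalgebra n K)
    {s : ℕ} (hs : s.Prime) (hsn : s ≠ n) {g : GL (Fin n) F} (hg : g ∈ subalgebraNormalizer K) (ho : orderOf g = s) :
    (g : Matrix (Fin n) (Fin n) F) ∈ K := by
  classical
  have hne : Nonempty (Fin n) := ⟨⟨0, hn.pos⟩⟩
  have hgs : g ^ s = 1 := by rw [← ho, pow_orderOf_eq_one]
  have hN : H912.NormAlg (subalgebraNormalizer K) K := fun _ hh a ha => (hh a).mp ha
  let _ : Field K := (H912.isField_of_fieldSub hK).toField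
  have hfd : Module.Finite F K := inferInstance
  have hKfin : Finite K := Module.finite_of_finite F
  have hgal : IsGalois F K := inferInstance
  let g' : subalgebraNormalizer K := ⟨g, hg⟩
  -- conjugation by `g` is trivial on `K`
  let σ : K ≃ₐ[F] K := H912.conjSub hN g'
  have hσk : ∀ (k : ℕ) (x : K), (((σ ^ k) x : K) : Matrix (Fin n) (Fin n) F) =
      ((g ^ k : GL (Fin n) F) : Matrix (Fin n) (Fin n) F) * x *
        (((g ^ k)⁻¹ : GL (Fin n) F) : Matrix (Fin n) (Fin n) F) := by
    intro k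
    induction k with
    | zero => intro x; simp
    | succ k ih =>
      intro x
      rw [pow_succ, AlgEquiv.mul_apply, ih, H912.conjSub_coe, pow_succ, _root_.mul_inv_rev, Units.val_mul,
        Units.val_mul]
      simp only [Matrix.mul_assoc]
      rfl
  have hσs : σ ^ s = 1 := by
    apply AlgEquiv.ext
    intro x
    apply Subtype.ext
    rw [hσk, hgs]
    simp
  have hσ1 : σ = 1 := by
    have h1 : orderOf σ ∣ s := orderOf_dvd_of_pow_eq_one hσs
    have h2 : orderOf σ ∣ n := by
      have h3 : Nat.card (K ≃ₐ[F] K) = n := by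
        rw [IsGalois.card_aut_eq_finrank, hK.finrank_eq]
      exact (orderOf_dvd_natCard σ).trans h3.dvd
    have h3 : Nat.Coprime s n := (Nat.coprime_primes hs hn).2 hsn
    have h4 : orderOf σ ∣ 1 := by
      rw [← Nat.Coprime.gcd_eq_one h3]
      exact Nat.dvd_gcd h1 h2
    exact orderOf_eq_one_iff.1 (Nat.dvd_one.1 h4)
  have hcomm : ∀ x : K, (g : Matrix (Fin n) (Fin n) F) * x = x * (g : Matrix (Fin n) (Fin n) F) := by
    intro x
    have h1 := H912.conjSub_coe hN g' x
    have h2 : (H912.conjSub hN g' x : K) = x := by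
      change σ x = x
      rw [hσ1]; rfl
    rw [h2] at h1
    conv_rhs => rw [h1]
    rw [Matrix.mul_assoc, ← Units.val_mul, inv_mul_cancel, Units.val_one, Matrix.mul_one]
  have hfr99 : Module.Free K (Fin n → F) := Module.Free.of_divisionRing _ _
  have hst99 : IsScalarTower F K (Fin n → F) := by first | exact Subalgebra.isScalarTower_mid _ | infer_instance
  have h1 := Module.finrank_mul_finrank F K (Fin n → F)
  rw [hK.finrank_eq, Module.finrank_fintype_fun_eq_card, Fintype.card_fin] at h1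
  have hrank : finrank K (Fin n → F) = 1 := Nat.eq_of_mul_eq_mul_left hn.pos (by rw [h1, mul_one])
  -- `g` is `K`-linear
  let f : (Fin n → F) →ₗ[K] (Fin n → F) :=
    { toFun := fun v => (g : Matrix (Fin n) (Fin n) F) *ᵥ v
      map_add' := fun u v => Matrix.mulVec_add _ _ _
      map_smul' := fun x v => by
        change (g : Matrix (Fin n) (Fin n) F) *ᵥ ((x : Matrix (Fin n) (Fin n) F) *ᵥ v) =
          (x : Matrix (Fin n) (Fin n) F) *ᵥ ((g : Matrix (Fin n) (Fin n) F) *ᵥ v)
        rw [Matrix.mulVec_mulVec, Matrix.mulVec_mulVec, hcomm] }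
  obtain ⟨v, hv0, hv⟩ := finrank_eq_one_iff'.1 hrank
  obtain ⟨k, hk⟩ := hv (f v)
  have h3 : (g : Matrix (Fin n) (Fin n) F) = (k : Matrix (Fin n) (Fin n) F) := by
    apply Matrix.toLin'.injective
    apply LinearMap.ext
    intro w
    obtain ⟨c, rfl⟩ := hv w
    rw [Matrix.toLin'_apply, Matrix.toLin'_apply]
    have h4 : f (c • v) = k • (c • v) := by
      rw [map_smul, ← hk, smul_smul, smul_smul, mul_comm]
    exact h4
  rw [h3]
  exact k.2

/-- fields of prime degree are generated by non-scalar elements -/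
theorem eq_adjoin (hn : n.Prime) {K : Subalgebra F (Matrix (Fin n) (Fin n) F)} (hK : IsFieldSubalgebra n K)
    {x : Matrix (Fin n) (Fin n) F} (hx : x ∈ K) (hx0 : ∀ c : F, x ≠ c • (1 : Matrix (Fin n) (Fin n) F)) :
    K = Algebra.adjoin F {x} := by
  classical
  have hne : Nonempty (Fin n) := ⟨⟨0, hn.pos⟩⟩
  let _ : Field K := (H912.isField_of_fieldSub hK).toField
  have hso : IsSimpleOrder (Subalgebra F K) := Subalgebra.isSimpleOrder_of_finrank_prime F K (by
    rw [hK.finrank_eq]; exact hn)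
  have hle : Algebra.adjoin F {x} ≤ K := Algebra.adjoin_le (by
    intro y hy
    rw [Set.mem_singleton_iff.1 hy]
    exact hx)
  rcases hso.eq_bot_or_eq_top ((Algebra.adjoin F {x}).comap K.val) with h | h
  · exfalso
    have h1 : (⟨x, hx⟩ : K) ∈ (Algebra.adjoin F {x}).comap K.val := by
      rw [Subalgebra.mem_comap]
      exact Algebra.subset_adjoin (Set.mem_singleton _)
    rw [h, Algebra.mem_bot] at h1
    obtain ⟨c, hc⟩ := h1
    apply hx0 c
    have h2 := congrArg (fun y : K => (y : Matrix (Fin n) (Fin n) F)) hc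
    change algebraMap F (Matrix (Fin n) (Fin n) F) c = x at h2
    rw [← h2, Algebra.algebraMap_eq_smul_one]
  · refine le_antisymm ?_ hle
    intro y hy
    have h1 : (⟨y, hy⟩ : K) ∈ (Algebra.adjoin F {x}).comap K.val := by rw [h]; trivial
    exact h1

/-- elements of prime order `s ∤ |F| - 1` are not scalar -/
theorem ne_scalar (hn : 0 < n) {s : ℕ} (hs : s.Prime) (hs1 : ¬ s ∣ Nat.card F - 1) {x : GL (Fin n) F}
    (ho : orderOf x = s) (c : F) : (x : Matrix (Fin n) (Fin n) F) ≠ c • (1 : Matrix (Fin n) (Fin n) F) := by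
  classical
  intro hc
  have hc0 : c ≠ 0 := by
    rintro rfl
    rw [zero_smul] at hc
    have h1 : (x : Matrix (Fin n) (Fin n) F) * ((x⁻¹ : GL (Fin n) F) : Matrix (Fin n) (Fin n) F) = 1 := by
      rw [← Units.val_mul, mul_inv_cancel, Units.val_one]
    rw [hc, Matrix.zero_mul] at h1
    have h2 := congrFun (congrFun h1 ⟨0, hn⟩) ⟨0, hn⟩
    rw [Matrix.zero_apply, Matrix.one_apply_eq] at h2
    exact zero_ne_one h2
  have hxs : x ^ s = 1 := by rw [← ho]; exact pow_orderOf_eq_one x
  have hcs : c ^ s = 1 := by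
    have h5 := congrArg (fun g : GL (Fin n) F => (g : Matrix (Fin n) (Fin n) F) ⟨0, hn⟩ ⟨0, hn⟩) hxs
    simp only [Units.val_pow_eq_pow_val, hc, _root_.smul_pow, one_pow, Units.val_one, Matrix.smul_apply,
      Matrix.one_apply_eq, smul_eq_mul, mul_one] at h5
    exact h5
  have hc1 : Units.mk0 c hc0 ≠ 1 := by
    intro h
    have h6 : c = 1 := congrArg Units.val h
    rw [h6, one_smul] at hc
    have : x = 1 := Units.ext hc
    rw [this, orderOf_one] at ho
    exact hs.one_lt.ne ho
  apply hs1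
  have h6 : orderOf (Units.mk0 c hc0) = s := orderOf_eq_prime (by
    apply Units.ext
    rw [Units.val_pow_eq_pow_val, Units.val_mk0, hcs, Units.val_one]) hc1 (hp := ⟨hs⟩)
  rw [Nat.card_eq_fintype_card, ← Fintype.card_units, ← h6]
  exact orderOf_dvd_card

/-- commuting elements normalise -/
theorem mem_norm_adjoin {a z : GL (Fin n) F} (h : z * a = a * z) :
    z ∈ subalgebraNormalizer (Algebra.adjoin F {(a : Matrix (Fin n) (Fin n) F)}) := by
  have h1 : ∀ k ∈ Algebra.adjoin F {(a : Matrix (Fin n) (Fin n) F)},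
      (z : Matrix (Fin n) (Fin n) F) * k = k * (z : Matrix (Fin n) (Fin n) F) := by
    intro k hk
    have h2 : Algebra.adjoin F {(a : Matrix (Fin n) (Fin n) F)} ≤
        Subalgebra.centralizer F {(z : Matrix (Fin n) (Fin n) F)} := Algebra.adjoin_le (by
      intro y hy
      rw [Set.mem_singleton_iff.1 hy]
      change (a : Matrix (Fin n) (Fin n) F) ∈ Subalgebra.centralizer F {(z : Matrix (Fin n) (Fin n) F)}
      rw [Subalgebra.mem_centralizer_iff]
      intro w hw
      rw [Set.mem_singleton_iff.1 hw, ← Units.val_mul, ← Units.val_mul, h])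
    exact (Subalgebra.mem_centralizer_iff F).1 (h2 hk) _ (Set.mem_singleton _)
  intro k
  constructor
  · intro hk
    rw [h1 k hk, Matrix.mul_assoc, ← Units.val_mul, mul_inv_cancel, Units.val_one, Matrix.mul_one]
    exact hk
  · intro hk
    have h2 := h1 _ hk
    have h3 : (z : Matrix (Fin n) (Fin n) F) * ((z : Matrix (Fin n) (Fin n) F) * k *
        ((z⁻¹ : GL (Fin n) F) : Matrix (Fin n) (Fin n) F)) = (z : Matrix (Fin n) (Fin n) F) * k := by
      rw [h2, Matrix.mul_assoc, ← Units.val_mul, inv_mul_cancel, Units.val_one, Matrix.mul_one]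
    have h4 := (Units.mul_right_inj z).1 h3
    rw [h4] at hk
    exact hk

/-- commuting elements stabilise the fixed space -/
theorem mem_stab_fx {a z : GL (Fin n) F} (h : z * a = a * z) :
    z ∈ subspaceStabilizer (fx (Matrix.toLin' (a : Matrix (Fin n) (Fin n) F))) := by
  rw [H918.mem_subspaceStabilizer]
  intro w
  rw [mem_fx, mem_fx, Matrix.toLin'_apply, Matrix.toLin'_apply, Matrix.mulVec_mulVec, ← Units.val_mul, ← h,
    Units.val_mul, ← Matrix.mulVec_mulVec]
  constructor
  · intro h1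
    rw [h1]
  · intro h1
    have h2 := congrArg (fun y => ((z⁻¹ : GL (Fin n) F) : Matrix (Fin n) (Fin n) F) *ᵥ y) h1
    simp only [Matrix.mulVec_mulVec, ← Units.val_mul, inv_mul_cancel_left, inv_mul_cancel, Units.val_one,
      Matrix.one_mulVec] at h2
    exact h2

end Adjoin

end Cfsg.Agent.H242.Spr
end

-- part: H242/Spr/Su7
section
/-!
# S3938 (3/2-generation): `Spr (PSU_7(q))` (helper242, task 4835)

`spr_psu7` : `a` of prime order `s`, `-q` of order 7 modulo `s`; the overgroups normalise the field `F[a]`.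
The analysis of the maximal overgroups is the one of `H834.Cov.noTwo_psu7`.
-/

set_option autoImplicit false
set_option linter.unusedSectionVars false

namespace Cfsg.Agent.H242.Spr

open Cfsg Cfsg.Geo Module Cfsg.Agent.H918 Cfsg.Agent.H251 Cfsg.Agent.H251.GeoCard Cfsg.Agent.H951
open Cfsg.Agent.H834.Cov
open Cfsg.Agent.H424.Spr (Spr)
open Cfsg.Agent.LieClassical
open scoped Matrix MatrixGroups

/-- **`PSU_7(q)`** -/
theorem spr_psu7 {q : ℕ} {F : Type} [Field F] [Fintype F] (hF : Fintype.card F = q ^ 2) : Spr (PSU 7 F q) := by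
  classical
  obtain ⟨p, f, hp, hf, hq, hpF⟩ := GeoU.exists_prime_power hF
  -- the primes
  obtain ⟨s, hs, hsiff, hs1, hsord⟩ := GeoU.exists_big (m := 7) hp hf (by norm_num) (by decide) (by
    rintro ⟨h, -⟩; omega)
  obtain ⟨t, ht, htiff, ht1, htord⟩ := GeoU.exists_big (m := 5) hp hf (by norm_num) (by decide) (by
    rintro ⟨h, -⟩; omega)
  rw [← hq] at hsord htord
  have hs15 : 14 < s := by
    have h1 := Nat.le_of_dvd (by have := hs.two_le; omega) hs1
    have h2 : 2 * 7 * 1 ≤ 2 * 7 * f := Nat.mul_le_mul_left _ hf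
    omega
  have hfs := Fact.mk hs
  have hft := Fact.mk ht
  -- the elements
  obtain ⟨a, ha, hao⟩ := exists_prime_elt (n := 7) hF (by norm_num) hs (by norm_num) le_rfl hsord
  obtain ⟨b, hb, hbo⟩ := exists_prime_elt (n := 7) hF (by norm_num) ht (by norm_num) (by norm_num) htord
  have hTA : ∀ H, IsMaximalIn (SUg 7 F q) H → ∀ x ∈ H, orderOf x = s →
      ∃ K : Subalgebra F (Matrix (Fin 7) (Fin 7) F), IsFieldSubalgebra 7 K ∧ H ≤ subalgebraNormalizer K := by
    intro H hH x hx hxo
    have hsH : s ∣ Nat.card H := dvd_card_of_mem hx (by rw [hxo])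
    rcases Cfsg.Agent.S5811.result q hF H hH with h | h | h | h | h | h | h | h
    · obtain ⟨W, hW0, hW, rfl⟩ := h
      exact (GeoU.kill_ts hF hs hsord (by decide) (by norm_num) (by norm_num) hW0 hW
        (hsH.trans (Subgroup.card_dvd_of_le (inf_le_inf_left _ inf_le_left)))).elim
    · obtain ⟨W, hW0, hW, hW2, rfl⟩ := h
      have := GeoU.kill_nd hF hs hsord (by decide) (by norm_num) (by norm_num) hW0 hW2
        (hsH.trans (Subgroup.card_dvd_of_le (inf_le_inf_left _ inf_le_left)))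
      omega
    · obtain ⟨D, hD, rfl⟩ := h
      exact (decomp_kill hF hs hsord (by decide) (by norm_num) (by omega) (by norm_num) hD.decomp (GeoU.dvd_left hsH)).elim
    · obtain ⟨K, hK, -, rfl⟩ := h
      exact ⟨K, hK, inf_le_left⟩
    · obtain ⟨F₀, r', P, hr', hro, hcd, -, rfl⟩ := h
      exact (subfield_kill hF hp hq hf hs hsiff hsord (by decide) (by norm_num) (by norm_num) hr'.two_le hcd
        (GeoU.dvd_left hsH)).elim
    · obtain ⟨-, F₀, P, hcd, -, rfl⟩ := h
      exact (subfield_kill hF hp hq hf hs hsiff hsord (by decide) (by norm_num) (by norm_num) le_rfl hcd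
        (GeoU.dvd_left hsH)).elim
    · obtain ⟨p', R, -, -, -, hR, habs, -, hRc, hRz, rfl⟩ := h
      refine (symp_kill (k := 1) hF hs hsord (by decide) (by norm_num) (by norm_num) (by omega) hR habs
        (Or.inl ⟨by decide, hRz, by rw [hRc]; norm_num⟩) (GeoU.dvd_left hsH)).elim
    · obtain ⟨P, hP, -, -, -, K, i1, i2, hK, ⟨e⟩⟩ := Cfsg.Agent.S5812.result q hF H hH h
      have h1 := core_dvd (by norm_num) hP hs (not_dvd_pred hF hsord (by norm_num)) hx hxo
      have := prime_aut_u33 hK e hs h1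
      omega
  have hnp := not_dvd_pred hF hsord (by norm_num)
  -- the field is generated by `a`
  have huniq : ∀ K : Subalgebra F (Matrix (Fin 7) (Fin 7) F), IsFieldSubalgebra 7 K →
      a ∈ subalgebraNormalizer K → K = Algebra.adjoin F {(a : Matrix (Fin 7) (Fin 7) F)} := by
    intro K hK haK
    exact eq_adjoin (by norm_num) hK (mem_of_norm (by norm_num) hK hs (by omega) haK hao)
      (ne_scalar (by norm_num) hs hnp hao)
  refine spr_psu_of hF (by norm_num) (by norm_num) ha
    (N := subalgebraNormalizer (Algebra.adjoin F {(a : Matrix (Fin 7) (Fin 7) F)})) ?_ ?_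
  · intro z _ hz
    exact mem_norm_adjoin hz
  · intro H hH haH
    obtain ⟨K, hK, hHK⟩ := hTA H hH a haH hao
    rw [← huniq K hK (hHK haH)]
    exact ⟨hHK, fun hle => ext_kill hF ht htord (Or.inr rfl) hK
      ((dvd_card_of_mem hb (by rw [hbo])).trans (Subgroup.card_dvd_of_le hle))⟩

end Cfsg.Agent.H242.Spr
end

-- part: H242/Spr/Su8
section
/-!
# S3938 (3/2-generation): `Spr (PSU_8(q))` (helper242, task 4835)

`spr_psu8` : `a` of prime order `s`, `-q` of order 7 modulo `s`; the overgroups stabilise the line of fixed points.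
The analysis of the maximal overgroups is the one of `H834.Cov.noTwo_psu8`.
-/

set_option autoImplicit false
set_option linter.unusedSectionVars false

namespace Cfsg.Agent.H242.Spr

open Cfsg Cfsg.Geo Module Cfsg.Agent.H918 Cfsg.Agent.H251 Cfsg.Agent.H251.GeoCard Cfsg.Agent.H951
open Cfsg.Agent.H834.Cov
open Cfsg.Agent.H424.Spr (Spr)
open Cfsg.Agent.LieClassical
open scoped Matrix MatrixGroups

/-- **`PSU_8(q)`** -/
theorem spr_psu8 {q : ℕ} {F : Type} [Field F] [Fintype F] (hF : Fintype.card F = q ^ 2) : Spr (PSU 8 F q) := by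
  classical
  obtain ⟨p, f, hp, hf, hq, hpF⟩ := GeoU.exists_prime_power hF
  -- the primes
  obtain ⟨s, hs, hsiff, hs1, hsord⟩ := GeoU.exists_big (m := 7) hp hf (by norm_num) (by decide) (by
    rintro ⟨h, -⟩; omega)
  obtain ⟨r, hr, hrord, -, -, -⟩ := H149.NegPrime.exists_neg_prime (i := 8) hp hq hf (by norm_num) (by
    rintro ⟨h, -⟩; omega)
  rw [← hq] at hsord
  have hs15 : 14 < s := by
    have h1 := Nat.le_of_dvd (by have := hs.two_le; omega) hs1
    have h2 : 2 * 7 * 1 ≤ 2 * 7 * f := Nat.mul_le_mul_left _ hf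
    omega
  have hfs := Fact.mk hs
  have hfr := Fact.mk hr
  -- the elements
  obtain ⟨a, ha, hao⟩ := exists_prime_elt (n := 8) hF (by norm_num) hs (by norm_num) (by norm_num) hsord
  obtain ⟨c, hc, hco⟩ := exists_prime_elt (n := 8) hF (by norm_num) hr (by norm_num) le_rfl hrord
  have hTA : ∀ H, IsMaximalIn (SUg 8 F q) H → ∀ x ∈ H, orderOf x = s →
      ∃ W : Submodule F (Fin 8 → F), finrank F W = 1 ∧ H ≤ subspaceStabilizer W := by
    intro H hH x hx hxo
    have hsH : s ∣ Nat.card H := dvd_card_of_mem hx (by rw [hxo])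
    rcases Cfsg.Agent.S5820.result q hF H hH with h | h | h | h | h | h | h | h | h | h | h | h
    · obtain ⟨W, hW0, hW, rfl⟩ := h
      exact (GeoU.kill_ts hF hs hsord (by decide) (by norm_num) (by norm_num) hW0 hW
        (hsH.trans (Subgroup.card_dvd_of_le (inf_le_inf_left _ inf_le_left)))).elim
    · obtain ⟨W, hW0, hW, hW2, rfl⟩ := h
      have := GeoU.kill_nd hF hs hsord (by decide) (by norm_num) (by norm_num) hW0 hW2
        (hsH.trans (Subgroup.card_dvd_of_le (inf_le_inf_left _ inf_le_left)))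
      exact ⟨W, this.2, inf_le_left⟩
    · obtain ⟨D, hD, rfl⟩ := h
      exact (decomp_kill hF hs hsord (by decide) (by norm_num) (by omega) (by norm_num) hD.decomp
        (GeoU.dvd_left hsH)).elim
    · obtain ⟨-, D, hD, rfl⟩ := h
      exact (decomp_kill hF hs hsord (by decide) (by norm_num) (by omega) (by norm_num) hD.decomp
        (GeoU.dvd_left hsH)).elim
    · obtain ⟨D, hD, rfl⟩ := h
      exact (decomp_kill hF hs hsord (by decide) (by norm_num) (by omega) (by norm_num) hD.decomp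
        (GeoU.dvd_left hsH)).elim
    · obtain ⟨D, hD, -, rfl⟩ := h
      exact (decomp_kill hF hs hsord (by decide) (by norm_num) (by omega) (by norm_num) hD
        (GeoU.dvd_left hsH)).elim
    · obtain ⟨-, e, P, f₁, f₂, -, -, -, rfl⟩ := h
      exact (tensor_kill hF hs hsord (by decide) (by norm_num) e P (by norm_num) (GeoU.dvd_left hsH)).elim
    · obtain ⟨F₀, r', P, hr', hro, hcd, -, rfl⟩ := h
      exact (subfield_kill hF hp hq hf hs hsiff hsord (by decide) (by norm_num) (by norm_num) hr'.two_le hcd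
        (GeoU.dvd_left hsH)).elim
    · obtain ⟨F₀, P, ζ, hcd, -, -, -, -, rfl⟩ := h
      exact (subfield_kill hF hp hq hf hs hsiff hsord (by decide) (by norm_num) (by norm_num) le_rfl hcd
        (GeoU.dvd_left hsH)).elim
    · obtain ⟨-, F₀, P, hcd, -, rfl⟩ := h
      exact (subfield_kill hF hp hq hf hs hsiff hsord (by decide) (by norm_num) (by norm_num) le_rfl hcd
        (GeoU.dvd_left hsH)).elim
    · obtain ⟨p', R, -, -, -, hR, habs, -, hRc, hRz, rfl⟩ := h
      refine (symp_kill (k := 3) hF hs hsord (by decide) (by norm_num) (by norm_num) (by omega) hR habs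
        (Or.inr ⟨rfl, hRz, by rw [hRc]; norm_num⟩) (GeoU.dvd_left hsH)).elim
    · obtain ⟨P, hP, -, -, K, i1, i2, hK, ⟨e⟩⟩ := Cfsg.Agent.S5821.result q hF H hH h
      have h1 := core_dvd (by norm_num) hP hs (not_dvd_pred hF hsord (by norm_num)) hx hxo
      have := prime_aut_l34 hK e hs h1
      omega
  have hfix := fix_le hF hs hsord (by norm_num) ha hao
  have huniq : ∀ W : Submodule F (Fin 8 → F), finrank F W = 1 → a ∈ subspaceStabilizer W →
      W = fx (Matrix.toLin' (a : Matrix (Fin 8) (Fin 8) F)) := by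
    intro W hW1 haW
    have h1 := le_fx hF hs hsord (by norm_num) hao (GeoU.inv_of_mem haW) (by
      rw [GeoU.ord_sq_odd hsord (by decide), hW1]; norm_num)
    exact Submodule.eq_of_le_of_finrank_le h1 (by omega)
  refine spr_psu_of hF (by norm_num) (by norm_num) ha
    (N := subspaceStabilizer (fx (Matrix.toLin' (a : Matrix (Fin 8) (Fin 8) F)))) ?_ ?_
  · intro z _ hz
    exact mem_stab_fx hz
  · intro H hH haH
    obtain ⟨W, hW1, hHW⟩ := hTA H hH a haH hao
    rw [← huniq W hW1 (hHW haH)]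
    refine ⟨hHW, fun hle => ?_⟩
    have h1 := eq_bot_of_inv hF hr hrord (by norm_num) hc hco (GeoU.inv_of_mem (hle hc)) (by
      rw [GeoU.ord_sq_even hrord (by decide)]; omega)
    omega

end Cfsg.Agent.H242.Spr
end

-- part: H71/Spr/Nine
section
/-!
# S3938, row `Ω_9(q)`, `q` odd (helper71)

* `exists_ppp8` : a primitive prime divisor `r ≠ 17` of `p ^ (8 a) - 1`, `p` odd;
* `spr_of_one_center` : the criterion U1 in a central extension;
* `spr_nine` : `Spr` for the quotient of `omegaGL Q`, from the list of the maximal subgroups (`GeoCases`): every proper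
  subgroup over an element of order `r` is in the stabiliser of its eight-dimensional commutator space.
-/

set_option autoImplicit false
set_option linter.unusedSectionVars false

namespace Cfsg.Agent.H71.Spr

open Module QuadraticMap Cfsg Cfsg.Geo Cfsg.Agent.LieClassical.OrthCore Cfsg.Agent.H955 Cfsg.Agent.H954.TSing
open Cfsg.Agent.H884.El Cfsg.Agent.H278.Cov Cfsg.Agent.H781.Cov9
open Cfsg.Agent.H951 (fx cm Inv)
open scoped MatrixGroups Matrix

/-! ### Numbers -/

theorem pow_four_mod {q : ℕ} (h : q % 2 = 1) : q ^ 4 % 16 = 1 := by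
  have h1 : q % 16 = 1 ∨ q % 16 = 3 ∨ q % 16 = 5 ∨ q % 16 = 7 ∨ q % 16 = 9 ∨ q % 16 = 11 ∨ q % 16 = 13 ∨
    q % 16 = 15 := by omega
  rw [Nat.pow_mod]
  rcases h1 with h | h | h | h | h | h | h | h <;> rw [h]

/-- `q ^ 4 + 1` is not `2 * 17 ^ k` -/
theorem ne_pow_17 {p a k : ℕ} (hp : p.Prime) (hp2 : p ≠ 2) (ha : a = 1 ∨ a = 2) : (p ^ a) ^ 4 + 1 ≠ 2 * 17 ^ k := by
  intro h
  have hpa : 3 ≤ p ^ a := by
    have h3 : 3 ≤ p := by
      have := hp.two_le
      omega
    calc 3 ≤ p := h3
      _ = p ^ 1 := (pow_one p).symm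
      _ ≤ p ^ a := Nat.pow_le_pow_right hp.pos (by omega)
  rcases Nat.even_or_odd' k with ⟨j, rfl | rfl⟩
  · have h1 := Cfsg.Agent.H437.quartic_two (t := p ^ a) (z := 17 ^ j) (by rw [h, mul_comm 2 j, pow_mul])
    omega
  · by_cases h3 : p = 3
    · subst h3
      rcases ha with rfl | rfl
      · rw [pow_succ] at h
        norm_num at h
        omega
      · cases j with
        | zero => norm_num at h
        | succ j =>
          have h4 : 17 ^ (2 * (j + 1) + 1) = 17 ^ (2 * j) * 4913 := by ring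
          rw [h4] at h
          norm_num at h
          omega
    · have h4 : ¬ 3 ∣ p ^ a := fun h5 => h3 ((Nat.prime_dvd_prime_iff_eq Nat.prime_three hp).1
        (Nat.prime_three.dvd_of_dvd_pow h5)).symm
      have h5 : (p ^ a) ^ 4 % 3 = 1 := by
        rw [Nat.pow_mod]
        have h6 : p ^ a % 3 = 1 ∨ p ^ a % 3 = 2 := by omega
        rcases h6 with h6 | h6 <;> rw [h6]
      have h6 : 17 ^ (2 * j + 1) % 3 = 2 := by
        rw [pow_succ, pow_mul, Nat.mul_mod, Nat.pow_mod]
        norm_num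
      omega

/-- **a primitive prime divisor `r ≠ 17`** -/
theorem exists_ppp8 {p a : ℕ} (hp : p.Prime) (hp2 : p ≠ 2) (ha : 1 ≤ a) : ∃ r, PP p (a * 8) r ∧ r ≠ 17 := by
  by_contra hcon
  push Not at hcon
  obtain ⟨r₀, hr₀⟩ := exists_ppp (e := 8) hp ha (by norm_num) (by omega) (fun b hb => by omega)
  have h17 := hcon r₀ hr₀
  subst h17
  have h1 := hr₀.dvd_sub_one (by omega)
  have ha2 : a = 1 ∨ a = 2 := by
    have h2 := Nat.le_of_dvd (by norm_num) h1
    omega
  have hodd : p % 2 = 1 := Nat.odd_iff.1 (hp.odd_of_ne_two hp2)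
  have hq2 : p ^ a % 2 = 1 := Nat.odd_iff.1 ((Nat.odd_iff.2 hodd).pow)
  have hq16 := pow_four_mod hq2
  obtain ⟨N, hN⟩ : ∃ N, (p ^ a) ^ 4 + 1 = 2 * N := ⟨((p ^ a) ^ 4 + 1) / 2, by omega⟩
  have hN2 : N % 2 = 1 := by omega
  have key : ∀ {d : ℕ}, Nat.Prime d → d ∣ N → d = 17 := by
    intro d hd hdN
    apply hcon
    have := Fact.mk hd
    refine ⟨hd, ?_⟩
    have h2 : d ≠ 2 := by
      rintro rfl
      omega
    have h3 : ((p : ZMod d) ^ a) ^ 4 = -1 := by
      have h4 : (((p ^ a) ^ 4 + 1 : ℕ) : ZMod d) = 0 := by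
        rw [ZMod.natCast_eq_zero_iff, hN]
        exact hdN.mul_left 2
      push_cast at h4
      exact eq_neg_of_add_eq_zero_left h4
    have h5 : (-1 : ZMod d) ≠ 1 := by
      have : Fact (2 < d) := ⟨by have := hd.two_le; omega⟩
      exact ZMod.neg_one_ne_one
    rcases ha2 with rfl | rfl
    · rw [pow_one] at h3
      have h6 : orderOf (p : ZMod d) = 2 ^ (2 + 1) := by
        apply orderOf_eq_prime_pow
        · rw [show (2 : ℕ) ^ 2 = 4 from rfl, h3]
          exact h5
        · rw [show (2 : ℕ) ^ (2 + 1) = 4 * 2 from rfl, pow_mul, h3]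
          ring
      rw [h6]; norm_num
    · rw [← pow_mul] at h3
      have h6 : orderOf (p : ZMod d) = 2 ^ (3 + 1) := by
        apply orderOf_eq_prime_pow
        · rw [show (2 : ℕ) ^ 3 = 2 * 4 from rfl, h3]
          exact h5
        · rw [show (2 : ℕ) ^ (3 + 1) = (2 * 4) * 2 from rfl, pow_mul, h3]
          ring
      rw [h6]; norm_num
  have hN0 : N ≠ 0 := by omega
  have h2 := Nat.eq_prime_pow_of_unique_prime_dvd hN0 key
  rw [h2] at hN
  exact ne_pow_17 hp hp2 ha2 hN

/-! ### The criterion -/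

/-- **U1 in a central extension** -/
theorem spr_of_one_center {G L : Type*} [Group G] [Group L] [IsSimpleGroup L] [Finite L] (f : G →* L)
    (hf : Function.Surjective f) (hker : f.ker ≤ Subgroup.center G) {s z : G} {M : Subgroup G}
    (hM : Subgroup.centralizer {s} ≤ M) (hz : z ∉ M) (h : ∀ K : Subgroup G, s ∈ K → K ≠ ⊤ → K ≤ M) :
    H424.Spr.Spr L := by
  have hk : f.ker ≤ M := hker.trans ((Subgroup.center_le_centralizer _).trans hM)
  have hMt : M ≠ ⊤ := by
    rintro rfl
    exact hz trivial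
  refine H424.Spr.spr_of_one_up ?_ f hf hk hMt (fun K _ hs hK => h K hs hK)
  by_contra hcon
  push Not at hcon
  have hs1 : f s ≠ 1 := by
    intro h1
    have h2 : s ∈ Subgroup.center G := hker h1
    apply hz
    apply hM
    rw [Subgroup.mem_centralizer_singleton_iff]
    exact ((Subgroup.mem_center_iff.1 h2 z)).symm.symm
  have hn : (Subgroup.zpowers (f s)).Normal := ⟨fun x hx y => by
    rw [hcon y x, mul_inv_cancel_right]; exact hx⟩
  rcases hn.eq_bot_or_eq_top with h1 | h1
  · exact hs1 (Subgroup.zpowers_eq_bot.1 h1)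
  · have h2 : f z ∈ Subgroup.zpowers (f s) := by rw [h1]; trivial
    obtain ⟨k, hk2⟩ := Subgroup.mem_zpowers_iff.1 h2
    have h3 : z * (s ^ k)⁻¹ ∈ f.ker := by
      rw [MonoidHom.mem_ker, map_mul, map_inv, map_zpow, hk2, mul_inv_cancel]
    have h4 := hM (Subgroup.center_le_centralizer {s} (hker h3))
    apply hz
    have h5 : s ^ k ∈ M := hM (by
      rw [Subgroup.mem_centralizer_singleton_iff]
      exact (Commute.refl s).zpow_left k)
    have h6 : z = z * (s ^ k)⁻¹ * s ^ k := by group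
    rw [h6]
    exact mul_mem h4 h5

/-! ### The row -/

universe u

variable {F : Type u} [Field F] [Fintype F] {Q : QuadraticForm F (I9 → F)}

/-- the centraliser of `x` stabilises the commutator space -/
theorem mem_stab_cm {x z : GL I9 F} (h : z * x = x * z) : z ∈ subspaceStabilizer (cm (lin x)) := by
  apply Cfsg.Agent.H876.mem_stab_of_le
  intro v hv
  rw [← lin_apply]
  obtain ⟨w, rfl⟩ := H951.mem_cm.1 hv
  refine H951.mem_cm.2 ⟨lin z w, ?_⟩
  rw [map_sub, ← lin_mul_apply, ← lin_mul_apply, h]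

/-- **the row from the list of the maximal subgroups** -/
theorem spr_nine (hQ : Nondeg Q) (h2 : (2 : F) ≠ 0)
    (hΩ : ∀ (g : GL I9 F) (r : ℕ), g ∈ isometryGroup F (⇑Q) → Odd r → g ^ r = 1 → g ∈ omegaGL (⇑Q))
    (hGeo : ∀ H : Subgroup (GL I9 F), IsMaximalIn (omegaGL (⇑Q)) H → GeoCases (⇑Q) H)
    {L : Type*} [Group L] [IsSimpleGroup L] [Finite L] (f : ↥(omegaGL (⇑Q)) →* L) (hf : Function.Surjective f)
    (hker : f.ker ≤ Subgroup.center ↥(omegaGL (⇑Q))) : H424.Spr.Spr L := by
  obtain ⟨p, a, hp, ha, hpa⟩ := exists_char F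
  have hF : Fintype.card F = p ^ a := by rw [← Nat.card_eq_fintype_card]; exact hpa
  have hpf := Fact.mk hp
  have hch : CharP F p := charP_of_card_eq_prime_pow hF
  have hp2 : p ≠ 2 := by
    rintro rfl
    apply h2
    have := CharP.cast_eq_zero F 2
    exact_mod_cast this
  obtain ⟨r8, hr8, hr17⟩ := exists_ppp8 hp hp2 ha
  obtain ⟨r4, hr4⟩ := exists_ppp (e := 4) hp ha (by norm_num) (by omega) (fun b hb => by omega)
  have hr8q : PP (Nat.card F) 8 r8 := by rw [hpa]; exact hr8.of_pow ha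
  have hr4q : PP (Nat.card F) 4 r4 := by rw [hpa]; exact hr4.of_pow ha
  obtain ⟨x, hx⟩ := exists_a hQ card_nine h2 hr8q
  obtain ⟨z, hz⟩ := exists_c hQ card_nine h2 hr4q
  have hxΩ : x ∈ omegaGL (⇑Q) := hΩ x r8 hx.mem (hr8q.odd (by norm_num)) hx.pow
  have hzΩ : z ∈ omegaGL (⇑Q) := hΩ z r4 hz.mem (hr4q.odd (by norm_num)) hz.pow
  have hfin : finrank F (I9 → F) = 9 := by rw [finrank_V, card_nine]
  obtain ⟨hcm, hcmP⟩ := hx.iso.even_case hQ (lin_ne_one hx.ne) hr8q (by decide) (by rw [hfin]; norm_num)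
  refine spr_of_one_center f hf hker (s := (⟨x, hxΩ⟩ : ↥(omegaGL (⇑Q)))) (z := ⟨z, hzΩ⟩)
    (M := (subspaceStabilizer (cm (lin x))).subgroupOf (omegaGL (⇑Q))) ?_ ?_ ?_
  · intro y hy
    rw [Subgroup.mem_centralizer_singleton_iff] at hy
    rw [Subgroup.mem_subgroupOf]
    exact mem_stab_cm (congrArg Subtype.val hy)
  · intro h
    rw [Subgroup.mem_subgroupOf] at h
    exact (not_c hQ hr4q hz h).1 ⟨hcm, hcmP⟩
  · intro K hxK hK
    obtain ⟨N, hN, hKN⟩ := (eq_top_or_exists_le_coatom K).resolve_left hK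
    refine hKN.trans fun y hy => ?_
    rw [Subgroup.mem_subgroupOf]
    have hxN : x ∈ N.map (omegaGL (⇑Q)).subtype := ⟨_, hKN hxK, rfl⟩
    rcases over_a hQ (hGeo _ (isMaximalIn_map hN)) hp ha hF hr8 hx hxN with ⟨W, hW8, -, -, hle⟩ | ⟨h17, -⟩
    · have hxW := inv_of_mem (hle hxN)
      have hadd := hx.finrank_add
      rw [card_nine] at hadd
      rcases hx.iso.le_or hr8q hcm hxW with h1 | h1
      · have h3 := Submodule.finrank_mono h1
        omega
      · have h3 : cm (lin x) = W := Submodule.eq_of_le_of_finrank_eq h1 (by omega)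
        rw [h3]
        exact hle ⟨y, hy, rfl⟩
    · exact absurd h17 hr17

end Cfsg.Agent.H71.Spr
end

-- part: H71/Spr/NineFin
section
/-!
# S3938, row `Ω_9(q)`, `q` odd, from S5836 (helper71)
-/

set_option autoImplicit false
set_option linter.unusedSectionVars false

namespace Cfsg.Agent.H71.Spr

open Module QuadraticMap Cfsg Cfsg.Geo Cfsg.Agent.LieClassical Cfsg.Agent.LieClassical.OmegaReindex Cfsg.Agent.H955
open Cfsg.Agent.H278.Cov Cfsg.Agent.H781.Cov9
open scoped MatrixGroups Matrix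

universe u

variable {F : Type u} [Field F] [Fintype F]

/-- the projection of `omegaGL` onto `POmega` -/
theorem exists_proj {ι : Type} [Fintype ι] [DecidableEq ι] (Q : (ι → F) → F) :
    ∃ f : ↥(omegaGL Q) →* POmega F Q, Function.Surjective f ∧ f.ker ≤ Subgroup.center ↥(omegaGL Q) := by
  let e : ↥(Omega F Q) ≃* ↥(omegaGL Q) :=
    (Omega F Q).equivMapOfInjective (isometryGroup F Q).subtype (isometryGroup F Q).subtype_injective
  refine ⟨(QuotientGroup.mk' (Subgroup.center (Omega F Q))).comp e.symm.toMonoidHom,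
    (QuotientGroup.mk'_surjective _).comp e.symm.surjective, fun x hx => ?_⟩
  rw [MonoidHom.mem_ker] at hx
  have h1 : e.symm x ∈ Subgroup.center (Omega F Q) := (QuotientGroup.eq_one_iff _).1 hx
  rw [Subgroup.mem_center_iff] at h1 ⊢
  intro y
  apply e.symm.injective
  rw [_root_.MulEquiv.map_mul, _root_.MulEquiv.map_mul]
  exact h1 (e.symm y)

/-- **S3938-OODD9** from the residual class (S5836) -/
theorem spr_o9_of_res (hodd : Odd (Fintype.card F))
    (hres : ∀ H : Subgroup (GL I9 F), IsMaximalIn (omegaGL (quadFormOdd 4 F)) H → InOrthogonalResidualClass H →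
      ResCases H) : H424.Spr.Spr (POmega F (quadFormOdd 4 F)) := by
  have h2 := H390.two_ne_zero_of_odd hodd
  have hgeo : ∀ H : Subgroup (GL I9 F), IsMaximalIn (omegaGL (quadFormOdd 4 F)) H → GeoCases (quadFormOdd 4 F) H := by
    intro H hH
    have h := Cfsg.Agent.S5835.result hodd H hH
    rcases h with h | h | h | h | h | h | h | h
    · exact Or.inl h
    · exact Or.inr (Or.inl h)
    · exact Or.inr (Or.inr (Or.inl h))
    · exact Or.inr (Or.inr (Or.inr (Or.inl h)))
    · exact Or.inr (Or.inr (Or.inr (Or.inr (Or.inl h))))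
    · exact Or.inr (Or.inr (Or.inr (Or.inr (Or.inr (Or.inl h)))))
    · exact Or.inr (Or.inr (Or.inr (Or.inr (Or.inr (Or.inr (Or.inl h))))))
    · exact Or.inr (Or.inr (Or.inr (Or.inr (Or.inr (Or.inr (Or.inr (hres H hH h)))))))
  have hs := Cfsg.Agent.S0295.result hodd 4 (by norm_num)
  have key : (∀ H : Subgroup (GL I9 F), IsMaximalIn (omegaGL (⇑(quadOdd 4 F))) H → GeoCases (⇑(quadOdd 4 F)) H) →
      IsSimpleGroup (POmega F (⇑(quadOdd 4 F))) → H424.Spr.Spr (POmega F (⇑(quadOdd 4 F))) := by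
    intro hG hs
    obtain ⟨f, hf, hker⟩ := exists_proj (F := F) (⇑(quadOdd 4 F))
    have : Finite (POmega F (⇑(quadOdd 4 F))) := Finite.of_surjective f hf
    (with_reducible_and_instances refine spr_nine (nondeg_iff.2 (quadOdd_nondegenerate h2)) h2 ?_ hG f hf hker)
    intro g r hg hr hgr
    exact (by with_reducible_and_instances exact (
          H957.mem_omegaGL_of_odd (quadOdd 4 F) (quadOdd_nondegenerate h2) (Or.inr (by rw [card_nine]; norm_num))
      hr g hg hgr))
  rw [coe_quadOdd] at key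
  exact key hgeo hs

end Cfsg.Agent.H71.Spr
end

-- part: H71/Spr/NineAll
section
/-!
# S3938, row `Ω_9(q)`, `q` odd (helper71)
-/

set_option autoImplicit false

namespace Cfsg.Agent.H71.Spr

open Cfsg

/-- **S3938-OODD9** -/
theorem spr_o9 {F : Type} [Field F] [Fintype F] (hodd : Odd (Fintype.card F)) :
    Cfsg.Agent.H424.Spr.Spr (POmega F (quadFormOdd 4 F)) :=
  spr_o9_of_res hodd fun H hH hS => Cfsg.Agent.S5836.result hodd H hH hS

end Cfsg.Agent.H71.Spr
end
end
end
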